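import Cfsg.Agent.H90.Avoid.Main
import Cfsg.Agent.H72.CharP
import Cfsg.Agent.H19.Cores
import Cfsg.Agent.H37.Kantor

/-! Solvable groups, `p` odd: subnormality in `⟨A, Aᵍ⟩` for a representative `g` of each class. -/

set_option autoImplicit false

namespace Cfsg.Agent.H90.Avoid

universe u

variable {p : ℕ} [hp : Fact p.Prime]

/-- For a representative of each class, `A` lies in a `p`-group normalised by `A` and its conjugate. -/
def ClassHyp (p : ℕ) {G : Type u} [Group G] (A : Subgroup G) : Prop :=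
  ∀ c : G, ∃ g : G, IsConj c g ∧ ∃ U : Subgroup G, IsPGroup p U ∧ A ≤ U ∧
    A.map (MulAut.conj g).toMonoidHom ≤ Subgroup.normalizer (U : Set G) ∧
    A ≤ Subgroup.normalizer (U : Set G)

omit hp in
theorem ClassHyp.map {G G' : Type u} [Group G] [Group G'] {A : Subgroup G} (h : ClassHyp p A)
    (f : G →* G') (hf : Function.Surjective f) : ClassHyp p (A.map f) := by
  intro c'
  obtain ⟨c, rfl⟩ := hf c'
  obtain ⟨g, hg, U, hU, hAU, h1, h2⟩ := h c
  refine ⟨f g, f.map_isConj hg, U.map f, hU.map f, Subgroup.map_mono hAU, ?_,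
    (Subgroup.map_mono h2).trans (Subgroup.le_normalizer_map f)⟩
  refine le_trans (le_of_eq ?_) ((Subgroup.map_mono h1).trans (Subgroup.le_normalizer_map f))
  rw [Subgroup.map_map, Subgroup.map_map]
  congr 1
  ext x
  simp

theorem le_pCore_of_classHyp (hp2 : p ≠ 2) : ∀ (n : ℕ) (G : Type u) [Group G] [Finite G],
    Nat.card G = n → Group.IsSolvable G → ∀ A : Subgroup G, IsPGroup p A → ClassHyp p A →
    A ≤ Cfsg.pCore p G := by
  intro n
  induction n using Nat.strong_induction_on with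
  | _ n ih =>
  intro G _ _ hn hG A hA hhyp
  classical
  have hquot : ∀ (N : Subgroup G) [N.Normal], N ≠ ⊥ →
      A.map (QuotientGroup.mk' N) ≤ Cfsg.pCore p (G ⧸ N) := by
    intro N _ hN
    haveI := hG
    refine ih _ ?_ (G ⧸ N) rfl inferInstance _ (hA.map _)
      (hhyp.map _ (QuotientGroup.mk'_surjective N))
    rw [← hn, N.card_eq_card_quotient_mul_card_subgroup]
    exact lt_mul_of_one_lt_right Nat.card_pos
      (Finite.one_lt_card_iff_nontrivial.mpr ((Subgroup.nontrivial_iff_ne_bot N).mpr hN))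
  haveI := H19.pCore_normal p G
  by_cases hO : Cfsg.pCore p G = ⊥
  swap
  · have h := hquot _ hO
    rw [H19.pCore_quotient_pCore p, le_bot_iff, Subgroup.map_eq_bot_iff, QuotientGroup.ker_mk'] at h
    exact h
  by_cases hA0 : A = ⊥
  · rw [hA0]; exact bot_le
  exfalso
  -- a minimal normal subgroup
  haveI : Nontrivial A := (Subgroup.nontrivial_iff_ne_bot A).mpr hA0
  haveI : Nontrivial G := A.subtype_injective.nontrivial
  obtain ⟨V, ⟨hVn, hV0⟩, hVmin⟩ := (Set.toFinite {N : Subgroup G | N.Normal ∧ N ≠ ⊥}).exists_minimal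
    ⟨⊤, inferInstance, top_ne_bot⟩
  haveI := hVn
  haveI := hG
  have hmin : ∀ K : Subgroup G, K.Normal → K ≤ V → K = ⊥ ∨ K = V := fun K hK hle =>
    or_iff_not_imp_left.mpr fun hne => le_antisymm hle (hVmin (y := K) ⟨hK, hne⟩ hle)
  obtain ⟨hcomm, r, hr, hexp⟩ := H37.minimal_normal_elementary V hV0 hmin
  letI : CommGroup V := { (inferInstance : Group V) with mul_comm := hcomm }
  have hVr : IsPGroup r V := fun m => ⟨1, by rw [pow_one]; exact hexp m⟩
  have hrp : r ≠ p := fun e => hV0 (le_bot_iff.mp (hO ▸ H72.le_pCore hVn (e ▸ hVr)))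
  have hVcop : (Nat.card V).Coprime p := by
    haveI := Fact.mk hr
    obtain ⟨k, hk⟩ := IsPGroup.iff_card.mp hVr
    rw [hk]
    exact ((Nat.coprime_primes hr hp.out).mpr hrp).pow_left k
  have hdisj : ∀ x : G, x ∈ V → (∃ k, x ^ p ^ k = 1) → x = 1 := by
    rintro x hx ⟨k, hk⟩
    have h1 : (⟨x, hx⟩ : V) ^ p ^ k = 1 := Subtype.ext hk
    exact congrArg Subtype.val
      ((powCoprime (G := V) (hVcop.pow_right k)).injective (h1.trans (one_pow _).symm))
  set q := QuotientGroup.mk' V with hq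
  set UG := (Cfsg.pCore p (G ⧸ V)).comap q with hUG
  haveI hUGn : UG.Normal := (H19.pCore_normal p _).comap q
  have hAU : A ≤ UG := Subgroup.map_le_iff_le_comap.mp (hquot V hV0)
  -- an element of order `p`
  obtain ⟨a₀, ha₀⟩ := exists_prime_orderOf_dvd_card' (G := A) p (by
    obtain ⟨k, hk⟩ := IsPGroup.iff_card.mp hA
    rw [hk]
    refine dvd_pow_self p fun e => ?_
    rw [e, pow_zero] at hk
    exact absurd hk Finite.one_lt_card.ne')
  set a : G := (a₀ : G)
  have haA : a ∈ A := a₀.2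
  have hap : a ^ p = 1 := by rw [← SubgroupClass.coe_pow, ← ha₀, pow_orderOf_eq_one, OneMemClass.coe_one]
  have ha1 : a ≠ 1 := fun e => hp.out.ne_one (by
    rw [← ha₀, show a₀ = 1 from Subtype.ext e, orderOf_one])
  let ρ : G →* MulAut V := MulAut.conjNormal
  -- `a` does not centralise `V`
  have hρa : ρ a ≠ 1 := by
    intro hρa
    refine ha1 ?_
    set C := UG ⊓ Subgroup.centralizer (V : Set G) with hC
    haveI hCn : C.Normal := Subgroup.normal_inf_normal _ _
    have haC : a ∈ C := ⟨hAU haA, Subgroup.mem_centralizer_iff.mpr fun v hv => by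
      have h1 : a * v * a⁻¹ = v := by
        have := congrArg Subtype.val (MulEquiv.congr_fun hρa ⟨v, hv⟩)
        rwa [MulAut.conjNormal_apply] at this
      exact (eq_mul_inv_iff_mul_eq.mp h1.symm).symm ▸ rfl⟩
    let f : C →* G ⧸ V := q.comp C.subtype
    have hf : f.rangeRestrict.ker ≤ Subgroup.center C := by
      rw [MonoidHom.ker_rangeRestrict]
      intro x hx
      have hxV : (x : G) ∈ V := (QuotientGroup.eq_one_iff _).mp hx
      exact Subgroup.mem_center_iff.mpr fun y =>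
        Subtype.ext ((Subgroup.mem_centralizer_iff.mp y.2.2 _ hxV).symm)
    have hfr : IsPGroup p f.range := (H19.pCore_isPGroup p).to_le fun _ ⟨x, hx⟩ => hx ▸ x.2.1
    haveI : Group.IsNilpotent f.range := hfr.isNilpotent
    haveI : Group.IsNilpotent C := Subgroup.isNilpotent_of_ker_le_center f.rangeRestrict hf
    have hza : IsPGroup p (Subgroup.zpowers (⟨a, haC⟩ : C)) := by
      intro x
      obtain ⟨i, hi⟩ := Subgroup.mem_zpowers_iff.mp x.2
      refine ⟨1, Subtype.ext ?_⟩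
      rw [pow_one, SubgroupClass.coe_pow, ← hi, ← zpow_natCast, zpow_comm, zpow_natCast,
        show (⟨a, haC⟩ : C) ^ p = 1 from Subtype.ext hap, one_zpow, OneMemClass.coe_one]
    obtain ⟨S, hS⟩ := hza.exists_le_sylow
    haveI hSn : (S : Subgroup C).Normal := inferInstance
    haveI : (S : Subgroup C).Characteristic := S.characteristic_of_normal hSn
    have hle : (S : Subgroup C).map C.subtype ≤ Cfsg.pCore p G :=
      H72.le_pCore (ConjAct.normal_of_characteristic_of_normal) (S.isPGroup'.map _)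
    exact Subgroup.mem_bot.mp (hO ▸ hle ⟨_, hS (Subgroup.mem_zpowers _), rfl⟩)
  -- the image in the automorphism group
  haveI : Finite (MulAut V) := Finite.of_injective (fun e : MulAut V => (e : V → V)) DFunLike.coe_injective
  have hP : IsPGroup p (UG.map ρ.rangeRestrict) := by
    rintro ⟨_, x, hx, rfl⟩
    obtain ⟨k, hk⟩ := H19.pCore_isPGroup p ⟨q x, hx⟩
    have hk' : q x ^ p ^ k = 1 := congrArg Subtype.val hk
    rw [← map_pow] at hk'
    have hxV : x ^ p ^ k ∈ V := (QuotientGroup.eq_one_iff _).mp hk'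
    refine ⟨k, Subtype.ext (Subtype.ext (MulEquiv.ext fun v => ?_))⟩
    rw [SubgroupClass.coe_pow, SubgroupClass.coe_pow, MonoidHom.coe_rangeRestrict, ← map_pow]
    refine Subtype.ext ?_
    rw [MulAut.conjNormal_apply]
    change x ^ p ^ k * (v : G) * (x ^ p ^ k)⁻¹ = v
    rw [show x ^ p ^ k * (v : G) = v * x ^ p ^ k from congrArg Subtype.val (hcomm ⟨_, hxV⟩ v),
      mul_inv_cancel_right]
  obtain ⟨v, hv⟩ := exists_avoid hp2 _ V ρ.range rfl hVcop
    (fun g hg => Subtype.ext (MulEquiv.ext hg))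
    (fun W hW => by
      rcases hmin (W.map V.subtype) ⟨fun x hx g => by
          obtain ⟨y, hy, rfl⟩ := hx
          exact ⟨ρ g y, hW ⟨ρ g, g, rfl⟩ y hy, MulAut.conjNormal_apply g y⟩⟩
        (Subgroup.map_subtype_le W) with e | e
      · exact Or.inl ((Subgroup.map_eq_bot_iff_of_injective _ V.subtype_injective).mp e)
      · refine Or.inr (Subgroup.map_injective V.subtype_injective ?_)
        rw [e, ← MonoidHom.range_eq_map, Subgroup.range_subtype])
    (UG.map ρ.rangeRestrict) (hUGn.map _ ρ.rangeRestrict_surjective) hP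
    (ρ.rangeRestrict a) ⟨a, hAU haA, rfl⟩ (by rw [← map_pow, hap, map_one])
    (fun e => hρa (congrArg Subtype.val e))
  obtain ⟨g, hconj, U, hU, hAU', h1, h2⟩ := hhyp (v : G)
  obtain ⟨x, hx⟩ := isConj_iff.mp hconj
  have hgV : g ∈ V := hx ▸ hVn.conj_mem _ v.2 x
  set w := g * a * g⁻¹ * a⁻¹ with hw
  have hwV : w ∈ V := by
    rw [hw, show g * a * g⁻¹ * a⁻¹ = g * (a * g⁻¹ * a⁻¹) by group]
    exact mul_mem hgV (hVn.conj_mem _ (inv_mem hgV) a)
  have hwN : w ∈ Subgroup.normalizer (U : Set G) :=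
    mul_mem (h1 ⟨a, haA, rfl⟩) (inv_mem (h2 haA))
  have hcom : Commute w a := by
    have hz : w * a * w⁻¹ * a⁻¹ = 1 := by
      have hzU : w * a * w⁻¹ * a⁻¹ ∈ U :=
        mul_mem ((Subgroup.mem_normalizer_iff.mp hwN a).mp (hAU' haA)) (inv_mem (hAU' haA))
      refine hdisj _ ?_ ?_
      · rw [show w * a * w⁻¹ * a⁻¹ = w * (a * w⁻¹ * a⁻¹) by group]
        exact mul_mem hwV (hVn.conj_mem _ (inv_mem hwV) a)
      · obtain ⟨k, hk⟩ := hU ⟨_, hzU⟩
        exact ⟨k, congrArg Subtype.val hk⟩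
    exact commutatorElement_eq_one_iff_mul_comm.mp ((commutatorElement_def w a).trans hz)
  have hw1 : w = 1 := by
    refine hdisj w hwV ⟨1, ?_⟩
    have h3 : (w * a) ^ p = 1 := by
      rw [hw, inv_mul_cancel_right, conj_pow, hap, mul_one, mul_inv_cancel]
    rw [hcom.mul_pow, hap, mul_one] at h3
    rw [pow_one]; exact h3
  refine hv (ρ.rangeRestrict x⁻¹) (Subtype.ext ?_)
  rw [← map_inv, ← map_mul, ← map_mul]
  refine (MulAut.conjNormal_apply (x⁻¹ * a * x⁻¹⁻¹) v).trans ?_
  have h4 : a * g * a⁻¹ = g := by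
    have : g * a * g⁻¹ = a := mul_inv_eq_one.mp hw1
    rw [← mul_inv_eq_iff_eq_mul.mp this]; group
  calc (x⁻¹ * a * x⁻¹⁻¹) * (v : G) * (x⁻¹ * a * x⁻¹⁻¹)⁻¹
      = x⁻¹ * (a * (x * v * x⁻¹) * a⁻¹) * x := by group
    _ = v := by rw [hx, h4, ← hx]; group

end Cfsg.Agent.H90.Avoid
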